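import Cfsg.Agent.Screen.CosetEnum.Core

/-!
# Cosets of the certificate
-/

set_option autoImplicit false
set_option maxRecDepth 20000

namespace Cfsg.Agent.Screen.CosetEnum.Fi23Ord.F23L2

open Cfsg.Agent.Screen.CosetEnum

def cosetTree0 : Tr :=
  (.leaf 0x7c00006002850007b000050027f0007a000010027900078000020026b00076000020026a00076000000026300074000000025c00073000010025500072000000025800071000010024500070000050024d0006d00001002430006c000050023b0006c00003002350006b000030023000069000050022500068000050022100068000040022300066000040020600063000050021200063000040020a0006300002002080006100004001f30006100002002030005f00004001f70005e000050020f0005e00003001e30005b00004001e80005a00003001d00005900004001ef0005800003001d60005800001001d40005600004001c60005500004001c90005400003001b40005400001001d10005300003001bd0005200002001a20005000004001c10004f00003001ac0004e00003001b00004d00002001990004c00002001a00004c000000019d0004a000040019100049000030018000048000020016f00047000020017700047000000017200046000010016700044000040018e00042000030017e00041000020016e0004100000001700004000001001640003f00005001620003e00004001880003d00003001570003c000000014b0003b00002001460003a000010014200039000050013d00038000060015c00037000030015100036000020012f00035000010012600034000010011900033000050011200032000060010d00032000050013700031000020012c0003000001001010002e00005000fa0002d00005000f50002c00006000f20002c000010010a00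02b00001000ff0002900005000de0002800005000e20002700006000d90002600006000d50002600002000d10002400005000be0002300005000c40002200006000b60002000006000b90002000002000d00002000000000b40001f00005000bd0001e00006000ae0001c000060009d0001c00000000ac0001b000060009f0001b000010009b00018000060007b0001800000000a800017000060007e00017000010007900016000050008600014000060007200013000060006e00013000010007700012000050006400012000030008300010000060006b0000f00005000550000e000050004e0000e00004000500000c00006000700000b000050004b0000b00004000420000b000020004900009000040003a00008000050005300008000030002f00007000040003900006000030002700006000010003000005000030002600004000020001900003000020001800003000000001a00002000010001300001000050000d000000000600007000000000000000)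

/-- Packed table. -/
def cosetTree : Tr := cosetTree0

end Cfsg.Agent.Screen.CosetEnum.Fi23Ord.F23L2
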